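import Mathlib
import Cfsg.Agent.RuRed.SzRelMore

/-!
# No transitive extension of the Suzuki groups

`suz_false`: in a 2-transitive group of even degree, no point stabiliser has a normal subgroup isomorphic to a Suzuki
group acting primitively on the remaining points.
-/

set_option autoImplicit false

namespace Cfsg.Agent.H322.Tri

open Subgroup MulAction
open Cfsg.Agent.ThreePrime

open scoped Pointwise in
theorem exists_rel_sylow {J : Type*} [Group J] [Finite J] (h : Cfsg.Lie.IsoSuzuki J) (P : Sylow 2 J) :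
    ∃ (F : Type) (_ : Field F) (_ : Fintype F) (R : SzRel.Rel J F), 8 ≤ Nat.card F ∧ R.T = (P : Subgroup J) := by
  have : Fact (Nat.Prime 2) := ⟨Nat.prime_two⟩
  obtain ⟨F, iF, iF', m, hm, hF, ⟨R₀⟩⟩ := SzRel.exists_rel h
  have h8 : 8 ≤ Nat.card F := by
    rw [Nat.card_eq_fintype_card, hF]
    exact SzRel.Rel.eight_le hm
  obtain ⟨P₀, hP₀⟩ := R₀.exists_sylow_eq hm hF
  obtain ⟨g, hg⟩ := MulAction.exists_smul_eq J P₀ P
  let R : SzRel.Rel J F := R₀.map (MulAut.conj g)
  have hT : R.T = (P : Subgroup J) := by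
    rw [← hg]
    ext x
    rw [Sylow.coe_subgroup_smul, Subgroup.mem_pointwise_smul_iff_inv_smul_mem, hP₀]
    constructor
    · rintro ⟨a, b, rfl⟩
      refine ⟨a, b, ?_⟩
      show (MulAut.conj g)⁻¹ (MulAut.conj g (R₀.u a b)) = _
      rw [MulAut.inv_apply_self]
    · rintro ⟨a, b, hx⟩
      refine ⟨a, b, ?_⟩
      show x = MulAut.conj g (R₀.u a b)
      rw [← hx]
      show x = MulAut.conj g ((MulAut.conj g)⁻¹ x)
      rw [MulAut.apply_inv_self]
  exact ⟨F, iF, iF', R, h8, hT⟩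

/-- a `2`-element of a subgroup of odd index lies in a Sylow `2`-subgroup contained in the subgroup -/
theorem exists_sylow_of_mem {J : Type*} [Group J] [Finite J] {K : Subgroup J} (hK : ¬ 2 ∣ K.index) {z : J}
    (hz : z ∈ K) {k : ℕ} (hzk : z ^ 2 ^ k = 1) : ∃ Q : Sylow 2 J, z ∈ (Q : Subgroup J) ∧ (Q : Subgroup J) ≤ K := by
  have : Fact (Nat.Prime 2) := ⟨Nat.prime_two⟩
  have hp : IsPGroup 2 (zpowers (⟨z, hz⟩ : K)) := by
    rintro ⟨y, hy⟩
    obtain ⟨i, rfl⟩ := mem_zpowers_iff.1 hy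
    refine ⟨k, Subtype.ext (Subtype.ext ?_)⟩
    change (z ^ i) ^ 2 ^ k = 1
    rw [← zpow_natCast, ← zpow_mul, mul_comm, zpow_mul, zpow_natCast, hzk, one_zpow]
  obtain ⟨Q₀, hQ₀⟩ := hp.exists_le_sylow
  have h1 : IsPGroup 2 ((Q₀ : Subgroup K).map K.subtype) := Q₀.2.map _
  have h2 : ¬ 2 ∣ ((Q₀ : Subgroup K).map K.subtype).index := by
    rw [Subgroup.index_map_subtype]
    intro h
    rcases (Nat.Prime.dvd_mul Nat.prime_two).1 h with h | h
    · exact Q₀.not_dvd_index h
    · exact hK h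
  refine ⟨h1.toSylow h2, ?_, ?_⟩
  · exact ⟨⟨z, hz⟩, hQ₀ (mem_zpowers _), rfl⟩
  · exact map_subtype_le _

section

variable {G Ω : Type*} [Group G] [Finite G] [MulAction G Ω] [FaithfulSMul G Ω] [Finite Ω]

/-- **No Suzuki group in the stabiliser of a point of a 2-transitive group of even degree.** -/
theorem suz_false (h2 : ∀ a b c d : Ω, a ≠ b → c ≠ d → ∃ g : G, g • a = c ∧ g • b = d)
    (hev : Even (Nat.card Ω)) (hcard : 2 < Nat.card Ω) {a : Ω} {J : Subgroup G} [IsSimpleGroup J]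
    (hSz : Cfsg.Lie.IsoSuzuki J) (hfix : ∀ x ∈ J, x • a = a)
    (hinv : ∀ g : G, g • a = a → ∀ x ∈ J, g * x * g⁻¹ ∈ J)
    (htr : ∀ b c : Ω, b ≠ a → c ≠ a → ∃ x ∈ J, x • b = c)
    (hmax : ∀ b : Ω, b ≠ a → ∀ K : Subgroup J, stabilizer J b ≤ K → K = stabilizer J b ∨ K = ⊤) : False := by
  classical
  have : Fact (Nat.Prime 2) := ⟨Nat.prime_two⟩
  have := Fintype.ofFinite Ω
  -- the index of the stabiliser of `c` in `J`
  have hindex : ∀ c : Ω, c ≠ a → (stabilizer J c).index + 1 = Nat.card Ω := by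
    intro c hc
    rw [MulAction.index_stabilizer]
    have h1 : MulAction.orbit J c = {x : Ω | x ≠ a} := by
      ext x
      rw [MulAction.mem_orbit_iff]
      change _ ↔ x ≠ a
      constructor
      · rintro ⟨y, rfl⟩ h4
        have h5 : (y : G) • c = (y : G) • a := h4.trans (hfix y y.2).symm
        exact hc (MulAction.injective (y : G) h5)
      · intro hx
        obtain ⟨y, hy, hyc⟩ := htr c x hc hx
        exact ⟨⟨y, hy⟩, hyc⟩
    rw [h1]
    have h4 : ({x : Ω | x ≠ a} : Set Ω).ncard + ({x : Ω | x ≠ a}ᶜ : Set Ω).ncard = Nat.card Ω :=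
      Set.ncard_add_ncard_compl _
    have h5 : ({x : Ω | x ≠ a}ᶜ : Set Ω) = {a} := by
      ext x; simp
    rw [h5, Set.ncard_singleton] at h4
    exact h4
  have hodd : ∀ c : Ω, c ≠ a → ¬ 2 ∣ (stabilizer J c).index := by
    intro c hc hd
    have h1 := hindex c hc
    rw [← h1] at hev
    exact (Nat.even_add_one.1 hev) (even_iff_two_dvd.2 hd)
  -- a point `b ≠ a` and a Sylow subgroup fixing it
  obtain ⟨b, hba⟩ : ∃ b : Ω, b ≠ a := by
    by_contra hcon
    push Not at hcon
    have : Subsingleton Ω := ⟨fun x y => by rw [hcon x, hcon y]⟩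
    have := Finite.card_le_one_iff_subsingleton.2 this
    omega
  obtain ⟨P, -, hPB⟩ := exists_sylow_of_mem (hodd b hba) (one_mem _) (k := 0) (by rw [one_pow])
  obtain ⟨F, _, _, R, h8, hT⟩ := exists_rel_sylow hSz P
  have hNe : normalizer ((P : Subgroup J) : Set J) ≠ ⊤ := by
    intro h
    have := R.w_not_mem_normalizer
    rw [hT, h] at this
    exact this (mem_top _)
  have hBne : stabilizer J b ≠ ⊤ := by
    intro h
    have h4 := hindex b hba
    rw [h, index_top] at h4
    omega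
  -- transport of Sylow subgroups
  have hconj : ∀ Q : Sylow 2 J, ∃ g : J, ∀ x : J, x ∈ (Q : Subgroup J) ↔ g⁻¹ * x * g ∈ (P : Subgroup J) := by
    intro Q
    obtain ⟨g, hg⟩ := MulAction.exists_smul_eq J P Q
    refine ⟨g, fun x => ?_⟩
    rw [← hg, Sylow.coe_subgroup_smul, Subgroup.mem_pointwise_smul_iff_inv_smul_mem]
    rw [← MulAut.conj_symm_apply]
    rfl
  have hmemN : ∀ g : J, (∀ x ∈ (P : Subgroup J), g * x * g⁻¹ ∈ (P : Subgroup J)) →
      g ∈ normalizer ((P : Subgroup J) : Set J) := by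
    intro g hg
    have h1 : ((P : Subgroup J).map (MulAut.conj g).toMonoidHom) = P := by
      apply Subgroup.eq_of_le_of_card_ge
      · rintro _ ⟨x, hx, rfl⟩
        exact hg x hx
      · exact (Nat.card_congr ((P : Subgroup J).equivMapOfInjective (MulAut.conj g).toMonoidHom
          (MulAut.conj g).injective).toEquiv).le
    rw [mem_normalizer_iff]
    intro x
    constructor
    · exact hg x
    · intro hx
      change g * x * g⁻¹ ∈ (P : Subgroup J) at hx
      rw [← h1] at hx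
      obtain ⟨y, hy, hyx⟩ := hx
      have h4 : y = x := (MulAut.conj g).injective hyx
      rw [← h4]; exact hy
  have huniq : ∀ Q : Sylow 2 J, (Q : Subgroup J) ≤ stabilizer J b → Q = P := by
    intro Q hQ
    obtain ⟨g, hg⟩ := hconj Q
    by_contra hne
    have hgN : g ∉ normalizer ((P : Subgroup J) : Set J) := by
      intro hgN
      apply hne
      apply Sylow.ext
      ext x
      rw [hg x]
      have h4 := (mem_normalizer_iff.1 (inv_mem hgN) x)
      rw [inv_inv] at h4
      exact h4.symm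
    have h5 := R.sup_eq_top (H := stabilizer J b) (g := g) (by rw [hT]; exact hPB) (by
      intro x hx
      rw [hT] at hx
      apply hQ
      rw [hg]
      have h6 : g⁻¹ * (g * x * g⁻¹) * g = x := by group
      rwa [h6]) (by rw [hT]; exact hgN)
    exact hBne h5
  have hBN : stabilizer J b ≤ normalizer ((P : Subgroup J) : Set J) := by
    intro g hg
    apply hmemN
    intro x hx
    have h4 := huniq (g • P) (by
      rw [Sylow.coe_subgroup_smul]
      rintro _ ⟨y, hy, rfl⟩
      exact mul_mem (mul_mem hg (hPB hy)) (inv_mem hg))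
    have h5 : g * x * g⁻¹ ∈ ((g • P : Sylow 2 J) : Subgroup J) := by
      rw [Sylow.coe_subgroup_smul]
      exact ⟨x, hx, rfl⟩
    rwa [h4] at h5
  have hNB : normalizer ((P : Subgroup J) : Set J) = stabilizer J b := by
    rcases hmax b hba _ hBN with h | h
    · exact h
    · exact absurd h hNe
  -- fixed points of `P`
  have hfixP : ∀ c : Ω, c ≠ a → (P : Subgroup J) ≤ stabilizer J c → c = b := by
    intro c hc hP
    obtain ⟨x, hx, hxb⟩ := htr b c hba hc
    have h4 : (⟨x, hx⟩ : J) ∈ normalizer ((P : Subgroup J) : Set J) := by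
      rw [← inv_mem_iff]
      have h5 := huniq ((⟨x, hx⟩ : J)⁻¹ • P) (by
        rw [Sylow.coe_subgroup_smul]
        rintro _ ⟨y, hy, rfl⟩
        have h6 : (y : G) • c = c := hP hy
        change ((x)⁻¹ * (y : G) * (x⁻¹)⁻¹) • b = b
        rw [inv_inv, mul_smul, mul_smul, hxb, h6, ← hxb, inv_smul_smul])
      apply hmemN
      intro y hy
      have h6 : (⟨x, hx⟩ : J)⁻¹ * y * ((⟨x, hx⟩ : J)⁻¹)⁻¹ ∈ (((⟨x, hx⟩ : J)⁻¹ • P : Sylow 2 J) : Subgroup J) := by
        rw [Sylow.coe_subgroup_smul]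
        exact ⟨y, hy, rfl⟩
      rwa [h5] at h6
    rw [hNB] at h4
    have h5 : x • b = b := h4
    rw [← hxb, h5]
  have hfixz : ∀ z ∈ (P : Subgroup J), z ≠ 1 → ∀ c : Ω, (z : G) • c = c → c = a ∨ c = b := by
    intro z hz hz1 c hzc
    by_cases hca : c = a
    · exact Or.inl hca
    right
    apply hfixP c hca
    obtain ⟨k, hk⟩ := P.2 ⟨z, hz⟩
    have hk' : z ^ 2 ^ k = 1 := congrArg Subtype.val hk
    obtain ⟨Q, hzQ, hQ⟩ := exists_sylow_of_mem (hodd c hca) (z := z) hzc hk'
    obtain ⟨g, hg⟩ := hconj Q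
    have h4 : g ∈ normalizer (R.T : Set J) := by
      refine R.ti (x := g⁻¹ * z * g) ?_ ?_ ?_
      · rw [hT]; exact (hg z).1 hzQ
      · intro h5
        apply hz1
        have h6 : z = g * (g⁻¹ * z * g) * g⁻¹ := by group
        rw [h6, h5]; group
      · have h6 : g * (g⁻¹ * z * g) * g⁻¹ = z := by group
        rw [h6, hT]; exact hz
    rw [hT] at h4
    intro x hx
    apply hQ
    rw [hg]
    have h5 := (mem_normalizer_iff.1 (inv_mem h4) x).1 hx
    rwa [inv_inv] at h5
  -- an involution of `P`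
  have hZcard : 8 ≤ Nat.card R.Z := by
    have hinj : Function.Injective (fun x : F => (⟨R.u 0 x, R.u_zero_mem_Z x⟩ : R.Z)) := by
      intro x y hxy
      exact (R.u_inj (congrArg Subtype.val hxy)).2
    exact h8.trans (Nat.card_le_card_of_injective _ hinj)
  obtain ⟨z, hz1⟩ : ∃ z : R.Z, z ≠ 1 := by
    by_contra hcon
    push Not at hcon
    have : Subsingleton R.Z := ⟨fun x y => by rw [hcon x, hcon y]⟩
    have := Finite.card_le_one_iff_subsingleton.2 this
    omega
  have hZP : ∀ x ∈ R.Z, x ∈ (P : Subgroup J) := fun x hx => hT ▸ R.Z_le_T hx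
  have hZsq : ∀ x ∈ R.Z, x * x = 1 := fun x hx => (R.mem_Z_iff (R.Z_le_T hx)).1 hx
  have hz1' : (z : J) ≠ 1 := fun h => hz1 (Subtype.ext h)
  -- 2-elements of the stabiliser of `a` and `b`
  have hcentr : ∀ y : G, y • a = a → (∀ x ∈ J, y * x = x * y) → y = 1 := by
    intro y hya hy
    have hyb : y • b = b := by
      have h4 : ((z : J) : G) • y • b = y • b := by
        rw [← mul_smul, ← hy _ (z : J).2, mul_smul]
        have h5 : ((z : J) : G) • b = b := hPB (hZP z z.2)
        rw [h5]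
      rcases hfixz z (hZP z z.2) hz1' _ h4 with h5 | h5
      · exfalso
        exact hba (MulAction.injective y (h5.trans hya.symm))
      · exact h5
    apply FaithfulSMul.eq_of_smul_eq_smul (α := Ω)
    intro c
    rw [one_smul]
    by_cases hca : c = a
    · rw [hca, hya]
    · obtain ⟨x, hx, rfl⟩ := htr b c hba hca
      rw [← mul_smul, hy x hx, mul_smul, hyb]
  obtain ⟨D, hD⟩ := SzRel.exists_szData hSz P
  have hinJ : ∀ x : G, x • a = a → (∃ k : ℕ, x ^ 2 ^ k = 1) → x ∈ J := by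
    rintro x hxa ⟨k, hk⟩
    have hxn : ∀ y, y ∈ J ↔ x * y * x⁻¹ ∈ J := by
      intro y
      constructor
      · exact hinv x hxa y
      · intro hy
        have h4 := hinv x⁻¹ (by rw [inv_smul_eq_iff, hxa]) _ hy
        have h5 : x⁻¹ * (x * y * x⁻¹) * x⁻¹⁻¹ = y := by group
        rwa [h5] at h4
    have hxN : x ∈ normalizer (J : Set G) := mem_normalizer_iff.2 hxn
    let φ : MulAut J := J.normalizerMonoidHom ⟨x, hxN⟩
    have hφ : ∀ y : J, ((φ y : J) : G) = x * y * x⁻¹ := fun y => rfl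
    have hφk : φ ^ 2 ^ k = 1 := by
      have h4 : φ ^ 2 ^ k = J.normalizerMonoidHom ((⟨x, hxN⟩ : normalizer (J : Set G)) ^ 2 ^ k) := by
        rw [map_pow]
      rw [h4]
      have h5 : (⟨x, hxN⟩ : normalizer (J : Set G)) ^ 2 ^ k = 1 := Subtype.ext hk
      rw [h5, map_one]
    obtain ⟨j, hj⟩ := hD.inner φ ⟨k, hφk⟩
    have h4 : (j : G)⁻¹ * x = 1 := by
      apply hcentr
      · rw [mul_smul, hxa, inv_smul_eq_iff, hfix j j.2]
      · intro y hy
        have h5 := hφ ⟨y, hy⟩
        rw [hj] at h5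
        change (j : G) * y * (j : G)⁻¹ = x * y * x⁻¹ at h5
        have h6 : (j : G)⁻¹ * (x * y * x⁻¹) * x = y * ((j : G)⁻¹ * x) := by
          rw [← h5]; group
        rw [← h6]; group
    rw [inv_mul_eq_one] at h4
    rw [← h4]; exact j.2
  have hinP : ∀ x : G, x • a = a → x • b = b → (∃ k : ℕ, x ^ 2 ^ k = 1) → ∃ y ∈ (P : Subgroup J), (y : G) = x := by
    rintro x hxa hxb ⟨k, hk⟩
    have hxJ := hinJ x hxa ⟨k, hk⟩
    obtain ⟨Q, hxQ, hQ⟩ := exists_sylow_of_mem (hodd b hba) (z := (⟨x, hxJ⟩ : J)) hxb (k := k) (Subtype.ext hk)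
    rw [huniq Q hQ] at hxQ
    exact ⟨_, hxQ, rfl⟩
  -- an involution interchanging `a` and `b`
  obtain ⟨c, hc⟩ : ∃ c : Ω, ((z : J) : G) • c ≠ c := by
    by_contra hcon
    push Not at hcon
    apply hz1'
    apply Subtype.ext
    apply FaithfulSMul.eq_of_smul_eq_smul (α := Ω)
    intro c
    rw [hcon c]
    exact (one_smul G c).symm
  have hzz : ((z : J) : G) * ((z : J) : G) = 1 := congrArg Subtype.val (hZsq z z.2)
  obtain ⟨g, hga, hgb⟩ := h2 c (((z : J) : G) • c) a b hc.symm hba.symm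
  set t : G := g * ((z : J) : G) * g⁻¹ with ht
  have hta : t • a = b := by
    rw [ht, mul_smul, mul_smul, inv_smul_eq_iff.2 hga.symm, hgb]
  have htb : t • b = a := by
    rw [ht, mul_smul, mul_smul, inv_smul_eq_iff.2 hgb.symm, ← mul_smul, ← mul_smul, mul_assoc, hzz, mul_one, hga]
  have htt : t * t = 1 := by
    rw [ht]
    have h4 : g * ((z : J) : G) * g⁻¹ * (g * ((z : J) : G) * g⁻¹) = g * (((z : J) : G) * ((z : J) : G)) * g⁻¹ := by group
    rw [h4, hzz]; group
  have htinv : t⁻¹ = t := inv_eq_of_mul_eq_one_left htt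
  have htfix : ∀ d : Ω, t • d = d → d = g • a ∨ d = g • b := by
    intro d hd
    have h4 : ((z : J) : G) • g⁻¹ • d = g⁻¹ • d := by
      rw [ht, mul_smul, mul_smul, smul_eq_iff_eq_inv_smul] at hd
      exact hd
    rcases hfixz z (hZP z z.2) hz1' _ h4 with h5 | h5
    · left; rw [← h5, smul_inv_smul]
    · right; rw [← h5, smul_inv_smul]
  have htg : t • g • a = g • a := by
    rw [ht, mul_smul, mul_smul, inv_smul_smul, hfix _ (z : J).2]
  -- `t` normalises the group of involutions of `P`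
  let E : Subgroup G := R.Z.map J.subtype
  have hE : ∀ x : G, x ∈ E ↔ ∃ y ∈ R.Z, (y : G) = x := fun x => Iff.rfl
  have htE : ∀ x ∈ E, t * x * t⁻¹ ∈ E := by
    rintro _ ⟨y, hy, rfl⟩
    have hya : (y : G) • a = a := hfix y y.2
    have hyb : (y : G) • b = b := hPB (hZP y hy)
    have hyy : (y : G) * (y : G) = 1 := congrArg Subtype.val (hZsq y hy)
    have hsq : (t * (y : G) * t⁻¹) * (t * (y : G) * t⁻¹) = 1 := by
      have h4 : (t * (y : G) * t⁻¹) * (t * (y : G) * t⁻¹) = t * ((y : G) * y) * t⁻¹ := by group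
      rw [h4, hyy]; group
    obtain ⟨w, hw, hwe⟩ := hinP (t * (y : G) * t⁻¹) (by
      rw [htinv, mul_smul, mul_smul, hta, hyb, htb]) (by
      rw [htinv, mul_smul, mul_smul, htb, hya, hta]) ⟨1, by rw [pow_one, pow_two]; exact hsq⟩
    refine ⟨w, ?_, hwe⟩
    have hwT : w ∈ R.T := by rw [hT]; exact hw
    refine (R.mem_Z_iff hwT).2 (Subtype.ext ?_)
    change (w : G) * w = 1
    rw [hwe, hsq]
  have hEcomm : ∀ x ∈ E, ∀ y ∈ E, x * y = y * x := by
    rintro _ ⟨x, hx, rfl⟩ _ ⟨y, hy, rfl⟩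
    exact congrArg Subtype.val (R.Z_central hx (R.Z_le_T hy))
  have hEsq : ∀ x ∈ E, x * x = 1 := by
    rintro _ ⟨x, hx, rfl⟩
    exact congrArg Subtype.val (hZsq x hx)
  have hEcard : 8 ≤ Nat.card E := by
    have h4 : Nat.card E = Nat.card R.Z :=
      (Nat.card_congr (R.Z.equivMapOfInjective _ J.subtype_injective).toEquiv).symm
    rw [h4]; exact hZcard
  have hEfix : ∀ x ∈ E, x ≠ 1 → ∀ c : Ω, x • c = c → c = a ∨ c = b := by
    rintro _ ⟨x, hx, rfl⟩ hx1 c hc
    exact hfixz x (hZP x hx) (fun h => hx1 (by rw [h]; rfl)) c hc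
  -- the map `x ↦ x * x^t`
  let f : E →* E :=
    { toFun := fun x => ⟨(x : G) * (t * x * t⁻¹), mul_mem x.2 (htE x x.2)⟩
      map_one' := by
        apply Subtype.ext
        change (1 : G) * (t * 1 * t⁻¹) = 1
        group
      map_mul' := by
        intro x y
        apply Subtype.ext
        change (x : G) * y * (t * (x * y) * t⁻¹) = x * (t * x * t⁻¹) * (y * (t * y * t⁻¹))
        have h4 := hEcomm _ y.2 _ (htE x x.2)
        calc (x : G) * y * (t * (x * y) * t⁻¹) = x * (y * (t * x * t⁻¹)) * (t * y * t⁻¹) := by group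
          _ = x * (t * x * t⁻¹) * (y * (t * y * t⁻¹)) := by rw [h4]; group }
  have hker : ∀ x : E, x ∈ f.ker → t * (x : G) = x * t := by
    intro x hx
    have h4 : (x : G) * (t * x * t⁻¹) = 1 := congrArg Subtype.val hx
    have h5 : (t * x * t⁻¹) = x := by
      have h6 := hEsq x x.2
      exact mul_left_cancel (h4.trans h6.symm)
    rw [mul_inv_eq_iff_eq_mul] at h5
    exact h5
  have hran : ∀ x : E, x ∈ f.range → t * (x : G) = x * t := by
    rintro _ ⟨x, rfl⟩
    change t * ((x : G) * (t * x * t⁻¹)) = (x : G) * (t * x * t⁻¹) * t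
    have h4 := hEcomm _ x.2 _ (htE x x.2)
    have h5 : t * ((x : G) * (t * x * t⁻¹)) = (t * x * t⁻¹) * (t * t) * x * t⁻¹ := by group
    rw [h5, htt, mul_one, ← h4, htinv]
  have hprod : Nat.card E = Nat.card f.ker * Nat.card f.range := by
    rw [← Nat.card_congr (QuotientGroup.quotientKerEquivRange f).toEquiv, mul_comm]
    exact Subgroup.card_eq_card_quotient_mul_card_subgroup _
  -- two different nontrivial elements commuting with `t`
  have hC : ∃ x ∈ E, ∃ y ∈ E, x ≠ 1 ∧ y ≠ 1 ∧ x ≠ y ∧ t * x = x * t ∧ t * y = y * t := by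
    have h4 : 3 ≤ Nat.card f.ker ∨ 3 ≤ Nat.card f.range := by
      by_contra hcon
      push Not at hcon
      have h5 : Nat.card f.ker ≤ 2 := by omega
      have h6 : Nat.card f.range ≤ 2 := by omega
      have := Nat.mul_le_mul h5 h6
      omega
    have key : ∀ C : Subgroup E, 3 ≤ Nat.card C → (∀ x : E, x ∈ C → t * (x : G) = x * t) →
        ∃ x ∈ E, ∃ y ∈ E, x ≠ 1 ∧ y ≠ 1 ∧ x ≠ y ∧ t * x = x * t ∧ t * y = y * t := by
      intro C hC hCt
      have hfin := Fintype.ofFinite C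
      rw [Nat.card_eq_fintype_card] at hC
      obtain ⟨x, y, w, hxy, hxw, hyw⟩ := Fintype.two_lt_card_iff.1 hC
      have aux : ∀ u v : C, u ≠ v → u ≠ 1 → v ≠ 1 → ∃ x ∈ E, ∃ y ∈ E, x ≠ 1 ∧ y ≠ 1 ∧ x ≠ y ∧
          t * x = x * t ∧ t * y = y * t := by
        intro u v huv hu hv
        refine ⟨_, (u : E).2, _, (v : E).2, ?_, ?_, ?_, hCt u u.2, hCt v v.2⟩
        · intro h; exact hu (Subtype.ext (Subtype.ext h))
        · intro h; exact hv (Subtype.ext (Subtype.ext h))
        · intro h; exact huv (Subtype.ext (Subtype.ext h))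
      by_cases hx : x = 1
      · exact aux y w hyw (fun h => hxy (hx.trans h.symm)) (fun h => hxw (hx.trans h.symm))
      · by_cases hy : y = 1
        · exact aux x w hxw hx (fun h => hyw (hy.trans h.symm))
        · exact aux x y hxy hx hy
    rcases h4 with h4 | h4
    · exact key _ h4 hker
    · exact key _ h4 hran
  obtain ⟨x, hx, y, hy, hx1, hy1, hxy, htx, hty⟩ := hC
  have hgane : g • a ≠ a ∧ g • a ≠ b := by
    constructor
    · intro h
      rw [h, hta] at htg
      exact hba htg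
    · intro h
      rw [h, htb] at htg
      exact hba htg.symm
  have hmove : ∀ w ∈ E, w ≠ 1 → t * w = w * t → w • g • a = g • b := by
    intro w hw hw1 htw
    have h4 : t • w • g • a = w • g • a := by
      rw [← mul_smul, htw, mul_smul, htg]
    rcases htfix _ h4 with h5 | h5
    · exfalso
      rcases hEfix w hw hw1 _ h5 with h6 | h6
      · exact hgane.1 h6
      · exact hgane.2 h6
    · exact h5
  have h4 := hmove x hx hx1 htx
  have h5 := hmove y hy hy1 hty
  have h6 : (x⁻¹ * y) • g • a = g • a := by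
    rw [mul_smul, h5, ← h4, inv_smul_smul]
  rcases hEfix (x⁻¹ * y) (mul_mem (inv_mem hx) hy) (fun h => hxy (inv_mul_eq_one.1 h)) _ h6 with h7 | h7
  · exact hgane.1 h7
  · exact hgane.2 h7

end

end Cfsg.Agent.H322.Tri
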