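import Cfsg.Agent.H322.Tri.Red

/-!
# Normal subgroups of 3-transitive groups of degree divisible by 3
-/

set_option autoImplicit false

namespace Cfsg.Agent.H322.Tri

open Subgroup MulAction
open Cfsg.Agent.HKS (HKSBelow)
open Cfsg.Agent.KantorSeitz (ofBase mem_ofBase ofBase_self)

/-- a subgroup is 3-transitive, elementwise -/
def S3 {G : Type*} (Ω : Type*) [Group G] [MulAction G Ω] (H : Subgroup G) : Prop :=
  ∀ a b c a' b' c' : Ω, a ≠ b → a ≠ c → b ≠ c → a' ≠ b' → a' ≠ c' → b' ≠ c' →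
    ∃ g ∈ H, g • a = a' ∧ g • b = b' ∧ g • c = c'

/-- a subgroup is 2-transitive, elementwise -/
def S2 {G : Type*} (Ω : Type*) [Group G] [MulAction G Ω] (H : Subgroup G) : Prop :=
  ∀ a b a' b' : Ω, a ≠ b → a' ≠ b' → ∃ g ∈ H, g • a = a' ∧ g • b = b'

section

variable {G Ω : Type*} [Group G] [Finite G] [MulAction G Ω] [FaithfulSMul G Ω] [Finite Ω]

/-- the stabiliser of a point in `H` is not trivial, even degree -/
theorem exists_fix_ne (h3 : T3 G Ω) (hd : 3 ∣ Nat.card Ω) (hev : Even (Nat.card Ω)) (X : Subgroup G) [hXn : X.Normal]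
    (hX1 : X ≠ ⊥) (a : Ω) : ∃ x ∈ X, x ≠ 1 ∧ x • a = a := by
  have hcard : 2 < Nat.card Ω := by
    have h0 : Nat.card Ω ≠ 0 := by
      have : Nonempty Ω := ⟨a⟩
      exact Nat.card_pos.ne'
    omega
  have h2 := h3.two hcard
  by_contra hcon
  push Not at hcon
  have hreg : ∀ c : Ω, stabilizer X c = ⊥ := by
    intro c
    rw [eq_bot_iff]
    rintro ⟨x, hx⟩ hxc
    obtain ⟨g, hg⟩ := h3.one hcard c a
    have h4 : (g * x * g⁻¹) • a = a := by
      rw [mul_smul, mul_smul, inv_smul_eq_iff.2 hg.symm]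
      have h5 : x • c = c := hxc
      rw [h5, hg]
    have h5 : g * x * g⁻¹ = 1 := by
      by_contra h6
      exact hcon _ (hXn.conj_mem x hx g) h6 h4
    rw [mem_bot]
    apply Subtype.ext
    have h6 : x = g⁻¹ * (g * x * g⁻¹) * g := by group
    change x = 1
    rw [h6, h5]; group
  have : Nonempty Ω := ⟨a⟩
  obtain ⟨-, p, hp, hpX⟩ :=
    Cfsg.Agent.PermutationGroups.TwoTransitiveNormal.regular_normal_elementary_abelian h2 X hreg
  have hprim : IsPreprimitive G Ω := by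
    apply isPreprimitive_of_is_two_pretransitive
    rw [is_two_pretransitive_iff]
    intro b c d e hbc hde
    exact h2 b c d e hbc hde
  have htr : IsPretransitive X Ω :=
    Cfsg.Agent.PermutationGroups.TwoTransitiveNormal.isPretransitive_of_normal_of_ne_bot X hX1
  have hcardX : Nat.card X = Nat.card Ω := by
    have h4 := MulAction.index_stabilizer_of_transitive X a
    rw [hreg, index_bot] at h4
    exact h4
  have hPX : IsPGroup p X := by
    intro x
    refine ⟨1, Subtype.ext ?_⟩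
    rw [pow_one]
    exact hpX x x.2
  have : Fact p.Prime := ⟨hp⟩
  obtain ⟨k, hk⟩ := hPX.exists_card_eq
  rw [← hcardX, hk] at hev hd
  have h4 := (Nat.prime_dvd_prime_iff_eq Nat.prime_three hp).1 (Nat.prime_three.dvd_of_dvd_pow hd)
  rw [← h4] at hev
  rw [Nat.even_pow] at hev
  exact absurd hev.1 (by decide)

/-- a nontrivial normal subgroup is 2-transitive -/
theorem normal_two (h3 : T3 G Ω) (hd : 3 ∣ Nat.card Ω) (hcard : 3 < Nat.card Ω) (H : Subgroup G) [hHn : H.Normal]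
    (hH : H ≠ ⊥) : S2 Ω H := by
  classical
  have := Fintype.ofFinite Ω
  intro a b a' b' hab hab'
  rcases Nat.even_or_odd (Nat.card Ω) with hev | hodd
  swap
  · have h5 : 5 ≤ Nat.card Ω := by
      obtain ⟨k, hk⟩ := hodd
      omega
    rw [Nat.card_eq_fintype_card] at hodd h5
    obtain ⟨g, hg, h4, h6⟩ := Cfsg.Agent.S0699.two_trans hodd h5 h3 H hH a b a' b' hab hab'
    exact ⟨g, hg, h4, h6⟩
  have h2 := h3.two (by omega)
  have hprim : IsPreprimitive G Ω := by
    apply isPreprimitive_of_is_two_pretransitive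
    rw [is_two_pretransitive_iff]
    intro b c d e hbc hde
    exact h2 b c d e hbc hde
  have hHtr : IsPretransitive H Ω :=
    Cfsg.Agent.PermutationGroups.TwoTransitiveNormal.isPretransitive_of_normal_of_ne_bot H hH
  obtain ⟨⟨h, hh⟩, hha⟩ := hHtr.exists_smul_eq a a'
  have hha' : h • a = a' := hha
  obtain ⟨R, hRH, hR⟩ := exists_min h3 hcard H a' (exists_fix_ne h3 hd hev H hH a')
  have hb1 : h • b ≠ a' := by
    intro e
    exact hab (MulAction.injective h (hha'.trans e.symm))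
  have key : ∃ x ∈ R, x • h • b = b' ∧ x • a' = a' := by
    rcases hR with hR | hR
    · obtain ⟨x, hx, hxb⟩ := hR.trans (h • b) b' hb1 hab'.symm
      exact ⟨x, hx, hxb, hR.fix x hx⟩
    · obtain ⟨x, hx, hxb⟩ := hR.trans (h • b) b' hb1 hab'.symm
      exact ⟨x, hx, hxb, hR.fix x hx⟩
  obtain ⟨x, hx, hxb, hxa⟩ := key
  exact ⟨x * h, mul_mem (hRH hx) hh, by rw [mul_smul, hha', hxa], by rw [mul_smul, hxb]⟩

end

section

universe v

variable {G Ω : Type v} [Group G] [Finite G] [MulAction G Ω] [FaithfulSMul G Ω] [Finite Ω]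

/-- **Odd point stabilisers.** -/
theorem odd_stab (h3 : T3 G Ω) (h4 : 4 ∣ Nat.card Ω) (H : Subgroup G) [hHn : H.Normal] (hH2 : S2 Ω H)
    (htwo : ∀ a b : Ω, b ≠ a → Two H a b) (hn3 : ¬ S3 Ω H) (a : Ω) : Odd (Nat.card (st H a)) := by
  classical
  have := Fintype.ofFinite Ω
  rw [← Nat.not_even_iff_odd]
  intro hev
  have hcard : 3 < Nat.card Ω := by
    have h0 : Nat.card Ω ≠ 0 := by
      have : Nonempty Ω := ⟨a⟩
      exact Nat.card_pos.ne'
    omega
  -- an involution in `H_a`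
  have : Fact (Nat.Prime 2) := ⟨Nat.prime_two⟩
  -- orbits of `H_ab`
  let K : Ω → Subgroup G := fun b => st H a ⊓ st H b
  have hK : ∀ b x, x ∈ K b ↔ x ∈ H ∧ x • a = a ∧ x • b = b := by
    intro b x
    constructor
    · rintro ⟨h4, h5⟩
      exact ⟨h4.1, h4.2, h5.2⟩
    · rintro ⟨h4, h5, h6⟩
      exact ⟨⟨h4, h5⟩, ⟨h4, h6⟩⟩
  have hnot : ∀ b : Ω, b ≠ a → ∃ c d : Ω, c ≠ a ∧ c ≠ b ∧ d ≠ a ∧ d ≠ b ∧ ∀ k ∈ K b, k • c ≠ d := by
    intro b hba
    by_contra hcon
    push Not at hcon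
    apply hn3
    intro x y z x' y' z' hxy hxz hyz hxy' hxz' hyz'
    obtain ⟨g, hg, hgx, hgy⟩ := hH2 x y a b hxy hba.symm
    obtain ⟨h, hh, hhx, hhy⟩ := hH2 a b x' y' hba.symm hxy'
    have e1 : g • z ≠ a := fun e => hxz (MulAction.injective g (hgx.trans e.symm))
    have e2 : g • z ≠ b := fun e => hyz (MulAction.injective g (hgy.trans e.symm))
    have e3 : h⁻¹ • z' ≠ a := fun e => hxz' (by rw [inv_smul_eq_iff, hhx] at e; exact e.symm)
    have e4 : h⁻¹ • z' ≠ b := fun e => hyz' (by rw [inv_smul_eq_iff, hhy] at e; exact e.symm)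
    obtain ⟨k, hk, hkz⟩ := hcon (g • z) (h⁻¹ • z') e1 e2 e3 e4
    obtain ⟨k1, k2, k3⟩ := (hK b k).1 hk
    refine ⟨h * k * g, mul_mem (mul_mem hh k1) hg, ?_, ?_, ?_⟩
    · rw [mul_smul, mul_smul, hgx, k2, hhx]
    · rw [mul_smul, mul_smul, hgy, k3, hhy]
    · rw [mul_smul, mul_smul, hkz, smul_inv_smul]
  -- size of the orbits of `H_ab`
  have horb : ∀ b : Ω, b ≠ a → ∀ c : Ω, c ≠ a → c ≠ b → 2 * (orbit (K b) c).ncard + 2 = Nat.card Ω := by
    intro b hba c hca hcb
    obtain ⟨d, e, hda, hdb, hea, heb, hde⟩ := hnot b hba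
    have hcover : ({a, b} ∪ orbit (K b) d ∪ orbit (K b) e : Set Ω) = Set.univ := by
      ext x
      simp only [Set.mem_union, Set.mem_insert_iff, Set.mem_singleton_iff, Set.mem_univ, iff_true]
      by_cases hxa : x = a
      · exact Or.inl (Or.inl (Or.inl hxa))
      by_cases hxb : x = b
      · exact Or.inl (Or.inl (Or.inr hxb))
      obtain ⟨g, hg, hga, hgb, h5⟩ := htwo a b hba d e x hda hdb hea heb hxa hxb
      have hgK : g ∈ K b := (hK b g).2 ⟨hg, hga, hgb⟩
      rcases h5 with h5 | h5 | h5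
      · exact absurd h5 (hde g hgK)
      · exact Or.inl (Or.inr ⟨⟨g, hgK⟩, h5⟩)
      · exact Or.inr ⟨⟨g, hgK⟩, h5⟩
    -- all orbits have the same size
    have hsize : ∀ x y : Ω, x ≠ a → x ≠ b → y ≠ a → y ≠ b → (orbit (K b) x).ncard ≤ (orbit (K b) y).ncard := by
      intro x y hxa hxb hya hyb
      obtain ⟨g, hga, hgb, hgx⟩ := h3 a b x a b y hba.symm hxa.symm hxb.symm hba.symm hya.symm hyb.symm
      apply Set.ncard_le_ncard_of_injOn (fun z => g • z)
      · rintro _ ⟨⟨k, hk⟩, rfl⟩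
        obtain ⟨k1, k2, k3⟩ := (hK b k).1 hk
        refine ⟨⟨g * k * g⁻¹, (hK b _).2 ⟨hHn.conj_mem k k1 g, ?_, ?_⟩⟩, ?_⟩
        · rw [mul_smul, mul_smul, inv_smul_eq_iff.2 hga.symm, k2, hga]
        · rw [mul_smul, mul_smul, inv_smul_eq_iff.2 hgb.symm, k3, hgb]
        · change (g * k * g⁻¹) • y = g • k • x
          rw [← hgx, ← mul_smul, ← mul_smul]; congr 1; group
      · exact (MulAction.injective g).injOn
    have hdisj1 : Disjoint (orbit (K b) d) (orbit (K b) e) := by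
      rw [Set.disjoint_left]
      rintro x ⟨⟨k, hk⟩, rfl⟩ ⟨⟨l, hl⟩, h5⟩
      apply hde (l⁻¹ * k) (mul_mem (inv_mem hl) hk)
      have h6 : l • e = k • d := h5
      rw [mul_smul, ← h6, inv_smul_smul]
    have hdisj2 : Disjoint ({a, b} : Set Ω) (orbit (K b) d ∪ orbit (K b) e) := by
      have aux : ∀ y : Ω, y ≠ a → y ≠ b → ∀ x ∈ orbit (K b) y, x ≠ a ∧ x ≠ b := by
        rintro y hya hyb x ⟨⟨k, hk⟩, rfl⟩
        obtain ⟨k1, k2, k3⟩ := (hK b k).1 hk
        constructor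
        · intro h5
          have h6 : k • y = a := h5
          exact hya (MulAction.injective k (h6.trans k2.symm))
        · intro h5
          have h6 : k • y = b := h5
          exact hyb (MulAction.injective k (h6.trans k3.symm))
      rw [Set.disjoint_left]
      rintro x (rfl | rfl) (hx | hx)
      · exact (aux d hda hdb _ hx).1 rfl
      · exact (aux e hea heb _ hx).1 rfl
      · exact (aux d hda hdb _ hx).2 rfl
      · exact (aux e hea heb _ hx).2 rfl
    have h5 : (Set.univ : Set Ω).ncard = 2 + ((orbit (K b) d).ncard + (orbit (K b) e).ncard) := by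
      rw [← hcover, Set.union_assoc, Set.ncard_union_eq hdisj2, Set.ncard_union_eq hdisj1, Set.ncard_pair hba.symm]
    rw [Set.ncard_univ] at h5
    have h6 := hsize d e hda hdb hea heb
    have h7 := hsize e d hea heb hda hdb
    have h8 := hsize c d hca hcb hda hdb
    have h9 := hsize d c hda hdb hca hcb
    omega
  -- an involution of `H_a`
  obtain ⟨t, ht⟩ := exists_prime_orderOf_dvd_card' 2 hev.two_dvd
  have htt : (t : G) * t = 1 := by
    have := pow_orderOf_eq_one t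
    rw [ht, pow_two] at this
    exact congrArg Subtype.val this
  have ht1 : (t : G) ≠ 1 := by
    intro e
    have h5 : t = 1 := Subtype.ext e
    rw [h5, orderOf_one] at ht
    omega
  obtain ⟨b, hb⟩ : ∃ b : Ω, (t : G) • b ≠ b := by
    by_contra hcon
    push Not at hcon
    exact ht1 (FaithfulSMul.eq_of_smul_eq_smul (α := Ω) fun x => by rw [hcon x, one_smul])
  obtain ⟨htH, hta⟩ : (t : G) ∈ H ∧ (t : G) • a = a := t.2
  have hba : b ≠ a := by
    rintro rfl
    exact hb hta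
  set c := (t : G) • b with hc
  have hca : c ≠ a := by
    intro e
    exact hba (MulAction.injective (t : G) (e.trans hta.symm))
  have htc : (t : G) • c = b := by rw [hc, ← mul_smul, htt, one_smul]
  let M : Subgroup G := K b ⊓ stabilizer G c
  have hM : ∀ x, x ∈ M ↔ x ∈ H ∧ x • a = a ∧ x • b = b ∧ x • c = c := by
    intro x
    constructor
    · rintro ⟨h5, h6⟩
      obtain ⟨k1, k2, k3⟩ := (hK b x).1 h5
      exact ⟨k1, k2, k3, h6⟩
    · rintro ⟨h5, h6, h7, h8⟩
      exact ⟨(hK b x).2 ⟨h5, h6, h7⟩, h8⟩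
  let W : Subgroup G :=
    { carrier := {x | x ∈ H ∧ x • a = a ∧ ((x • b = b ∧ x • c = c) ∨ (x • b = c ∧ x • c = b))}
      one_mem' := ⟨H.one_mem, one_smul _ _, Or.inl ⟨one_smul _ _, one_smul _ _⟩⟩
      mul_mem' := by
        rintro x y ⟨h5, h6, h7⟩ ⟨k5, k6, k7⟩
        refine ⟨mul_mem h5 k5, by rw [mul_smul, k6, h6], ?_⟩
        rcases h7 with ⟨h7, h8⟩ | ⟨h7, h8⟩ <;> rcases k7 with ⟨k7, k8⟩ | ⟨k7, k8⟩
        · exact Or.inl ⟨by rw [mul_smul, k7, h7], by rw [mul_smul, k8, h8]⟩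
        · exact Or.inr ⟨by rw [mul_smul, k7, h8], by rw [mul_smul, k8, h7]⟩
        · exact Or.inr ⟨by rw [mul_smul, k7, h7], by rw [mul_smul, k8, h8]⟩
        · exact Or.inl ⟨by rw [mul_smul, k7, h8], by rw [mul_smul, k8, h7]⟩
      inv_mem' := by
        rintro x ⟨h5, h6, h7⟩
        refine ⟨inv_mem h5, inv_smul_eq_iff.2 h6.symm, ?_⟩
        rcases h7 with ⟨h7, h8⟩ | ⟨h7, h8⟩
        · exact Or.inl ⟨inv_smul_eq_iff.2 h7.symm, inv_smul_eq_iff.2 h8.symm⟩
        · exact Or.inr ⟨inv_smul_eq_iff.2 h8.symm, inv_smul_eq_iff.2 h7.symm⟩ }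
  have hMW : M ≤ W := by
    intro x hx
    obtain ⟨h5, h6, h7, h8⟩ := (hM x).1 hx
    exact ⟨h5, h6, Or.inl ⟨h7, h8⟩⟩
  have hWst : W ≤ st H a := fun x hx => ⟨hx.1, hx.2.1⟩
  have hMK : M ≤ K b := inf_le_left
  have hKst : K b ≤ st H a := inf_le_left
  have htW : (t : G) ∈ W := ⟨htH, hta, Or.inr ⟨hc.symm, htc⟩⟩
  have h2 : M.relIndex W = 2 := by
    rw [relIndex, index_eq_two_iff]
    refine ⟨⟨t, htW⟩, ?_⟩
    rintro ⟨x, hx⟩
    obtain ⟨h5, h6, h7⟩ := hx
    have e1 : ((⟨x, ⟨h5, h6, h7⟩⟩ : W) * ⟨t, htW⟩ ∈ M.subgroupOf W) ↔ x * t ∈ M := Iff.rfl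
    have e2 : ((⟨x, ⟨h5, h6, h7⟩⟩ : W) ∈ M.subgroupOf W) ↔ x ∈ M := Iff.rfl
    rw [e1, e2]
    rcases h7 with ⟨h7, h8⟩ | ⟨h7, h8⟩
    · refine Or.inr ⟨(hM x).2 ⟨h5, h6, h7, h8⟩, ?_⟩
      intro h9
      obtain ⟨-, -, h9, -⟩ := (hM _).1 h9
      rw [mul_smul, ← hc, h8] at h9
      exact hb h9
    · refine Or.inl ⟨(hM _).2 ⟨mul_mem h5 htH, by rw [mul_smul, hta, h6], by rw [mul_smul, ← hc, h8],
        by rw [mul_smul, htc, h7]⟩, ?_⟩
      intro h9
      obtain ⟨-, -, h9, -⟩ := (hM _).1 h9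
      rw [h7] at h9
      exact hb h9
  have h5 : M.relIndex (K b) = (orbit (K b) c).ncard := by
    rw [← MulAction.index_stabilizer, relIndex]
    congr 1
    ext ⟨x, hx⟩
    constructor
    · intro h6
      exact h6.2
    · intro h6
      exact ⟨hx, h6⟩
  have h6 : (K b).relIndex (st H a) = Nat.card Ω - 1 := by
    have h7 : (K b).relIndex (st H a) = (orbit (st H a) b).ncard := by
      rw [← MulAction.index_stabilizer, relIndex]
      congr 1
      ext ⟨x, hx⟩
      constructor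
      · intro h6
        exact h6.2.2
      · intro h6
        exact ⟨hx, hx.1, h6⟩
    have h8 : orbit (st H a) b = {a}ᶜ := by
      ext x
      simp only [Set.mem_compl_iff, Set.mem_singleton_iff]
      constructor
      · rintro ⟨⟨k, hk⟩, rfl⟩ e
        have e' : k • b = a := e
        exact hba (MulAction.injective k (e'.trans hk.2.symm))
      · intro hx
        obtain ⟨g, hg, hga, hgb⟩ := hH2 a b a x hba.symm (Ne.symm hx)
        exact ⟨⟨g, ⟨hg, hga⟩⟩, hgb⟩
    rw [h7, h8, Set.ncard_compl, Set.ncard_singleton]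
  have h7 := relIndex_mul_relIndex M (K b) (st H a) hMK hKst
  have h8 := relIndex_mul_relIndex M W (st H a) hMW hWst
  have h9 := horb b hba c hca hb
  rw [h2] at h8
  rw [h5, h6] at h7
  have h10 : Even ((orbit (K b) c).ncard * (Nat.card Ω - 1)) := by
    rw [h7, ← h8]
    exact even_two_mul _
  rw [Nat.even_mul] at h10
  obtain ⟨m, hm⟩ := h4
  rcases h10 with ⟨k, hk⟩ | ⟨k, hk⟩ <;> omega

end

end Cfsg.Agent.H322.Tri
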